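import Cfsg.Agent.Lib.Recog.SporBound.SuzAut.Defs
import Cfsg.Agent.Lib.Recog.SporBound.Check

set_option autoImplicit false
set_option maxRecDepth 20000
set_option Elab.async false

/-! Kernel checks for the automorphism group of Suz (owner: helper18). -/

namespace CfsgLib.Recog.SporBound.SuzAut

open CfsgLib.ThreeTrans.CosetIndex

theorem suborbit_closed : (forallFrom (fun c => !suborbit.testBit c || forallFrom (fun x => suborbit.testBit (tr c [x])) 0 6) 0 1782) = true := by decide +kernel

theorem only_origin : forallFrom (fun c => Nat.beq c 0 || !forallFrom (fun x => Nat.beq (tr c [x]) c) 0 6) 0 1782 = true := by decide +kernel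

theorem z_fixed : forallFrom (fun c => !Nat.beq (tr c zWord) c || fixZ.contains c) 0 1782 = true := by decide +kernel

theorem z_fixed_mem : (fixZ.all fun c => Nat.beq (tr c zWord) c) = true := by decide +kernel

theorem trans_ok : ((List.range 4).all fun i => Nat.beq (tr (fixZ.getD i 0) (transZ.getD i [])) 0 && sameW (zWord ++ transZ.getD i []) (transZ.getD i [] ++ zWord)) = true := by decide +kernel

theorem cycQ_eq : (cycZ qStart == cycQ) = true := by decide +kernel

theorem rank_part_0 : forallFrom (fun i => Nat.blt (patt baseS (at16 rankN i)) (patt baseS (at16 rankN (i + 1)))) 0 446 = true := by decide +kernel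

theorem rank_part_1 : forallFrom (fun i => Nat.blt (patt baseS (at16 rankN i)) (patt baseS (at16 rankN (i + 1)))) 446 445 = true := by decide +kernel

theorem rank_part_2 : forallFrom (fun i => Nat.blt (patt baseS (at16 rankN i)) (patt baseS (at16 rankN (i + 1)))) 891 445 = true := by decide +kernel

theorem rank_part_3 : forallFrom (fun i => Nat.blt (patt baseS (at16 rankN i)) (patt baseS (at16 rankN (i + 1)))) 1336 445 = true := by decide +kernel

theorem rank_lt : forallFrom (fun i => Nat.blt (at16 rankN i) 1782) 0 1782 = true := by decide +kernel

theorem rank_ok : (forallFrom (fun i => Nat.blt (at16 rankN i) 1782) 0 1782 && forallFrom (fun i => Nat.blt (patt baseS (at16 rankN i)) (patt baseS (at16 rankN (i + 1)))) 0 1781) = true :=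
  Bool.and_eq_true_iff.2 ⟨rank_lt, forallFrom_cat (forallFrom_cat (l := 1336) (forallFrom_cat (l := 891) rank_part_0 rank_part_1 rfl rfl)
    rank_part_2 rfl rfl) rank_part_3 rfl rfl⟩

theorem first_cover : forallFrom (fun c => !firstTest c || maskSeven.testBit c) 0 1782 = true := by decide +kernel

theorem killed_0 : killOK (117, 1) = true := by decide +kernel

theorem killed_1 : killOK (146, 1) = true := by decide +kernel

theorem killed_2 : killOK (205, 1) = true := by decide +kernel

theorem killed_3 : killOK (419, 1) = true := by decide +kernel

theorem killed_4 : killOK (430, 1) = true := by decide +kernel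

theorem killed_5 : killOK (532, 1) = true := by decide +kernel

theorem killed_6 : killOK (594, 1) = true := by decide +kernel

theorem killed_7 : killOK (604, 1) = true := by decide +kernel

theorem killed_ok : killedSeven.all killOK = true := by
  simp only [killedSeven, List.all_cons, List.all_nil, Bool.and_true, Bool.and_eq_true]
  exact ⟨killed_0, killed_1, killed_2, killed_3, killed_4, killed_5, killed_6, killed_7⟩

theorem kind_0 : kindOK 0 = true := by decide +kernel

theorem kind_1 : kindOK 1 = true := by decide +kernel

theorem kind_2 : kindOK 2 = true := by decide +kernel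

theorem kind_3 : kindOK 3 = true := by decide +kernel

theorem kind_4 : kindOK 4 = true := by decide +kernel

theorem kind_5 : kindOK 5 = true := by decide +kernel

theorem cubes : ((List.range 6).all fun i => (List.range 7).all fun a => cubeOK i a) = true := by decide +kernel

end CfsgLib.Recog.SporBound.SuzAut
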