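import Cfsg.Agent.Lib.Recog.SporBound.SuzAut.SurvPart

set_option autoImplicit false
set_option maxRecDepth 20000
set_option Elab.async false

/-! Kernel checks for the automorphism group of Suz: possible images 2 and 3 (owner: helper18). -/

namespace CfsgLib.Recog.SporBound.SuzAut

open CfsgLib.ThreeTrans.CosetIndex

theorem surv_2_0 : survPart (survSeven.getD 2 (0, 0)) 0 594 = true := by decide +kernel

theorem surv_2_1 : survPart (survSeven.getD 2 (0, 0)) 594 594 = true := by decide +kernel

theorem surv_2_2 : survPart (survSeven.getD 2 (0, 0)) 1188 594 = true := by decide +kernel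

theorem surv_2 : survOK (survSeven.getD 2 (0, 0)) = true := survOK_of_parts surv_2_0 surv_2_1 surv_2_2

theorem surv_3_0 : survPart (survSeven.getD 3 (0, 0)) 0 594 = true := by decide +kernel

theorem surv_3_1 : survPart (survSeven.getD 3 (0, 0)) 594 594 = true := by decide +kernel

theorem surv_3_2 : survPart (survSeven.getD 3 (0, 0)) 1188 594 = true := by decide +kernel

theorem surv_3 : survOK (survSeven.getD 3 (0, 0)) = true := survOK_of_parts surv_3_0 surv_3_1 surv_3_2

end CfsgLib.Recog.SporBound.SuzAut
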