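import Cfsg.Agent.Lib.Recog.SporBound.SuzAut.ChecksSurv0
import Cfsg.Agent.Lib.Recog.SporBound.SuzAut.ChecksSurv1
import Cfsg.Agent.Lib.Recog.SporBound.SuzAut.ChecksSurv2

/-! The six possible images together (owner: helper18). -/
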