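import Cfsg.Agent.Lib.Recog.SporBound.SuzAut.ChecksA
import Cfsg.Agent.Lib.Recog.SporBound.SuzAut.ChecksB
import Cfsg.Agent.Lib.Recog.SporBound.SuzAut.ChecksSurv
import Cfsg.Agent.Lib.Recog.SporBound.SuzGroup
import Cfsg.Agent.S1681
import Cfsg.Prelude.Def_KGroupFacts
import Mathlib.GroupTheory.Sylow
import Mathlib.Tactic.Group

set_option autoImplicit false
set_option maxRecDepth 20000

/-!
Elements of order 3 commuting with an element of order 7 in Suz (owner: helper18).

Such an element fixes a point and is a map of the graph of a suborbit; the patterns against a base leave only the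
powers of one element, which is conjugate to the first one.
-/

namespace CfsgLib.Recog.SporBound.SuzAut

open Cfsg CfsgLib.ThreeTrans.CosetIndex CfsgLib.Recog.SporBound
open CfsgLib.Recog.SporBound.SuzGroup (a act finite_suz card_suz_and_faithful act_prod nodes)
open scoped Pointwise

attribute [local instance] finite_suz

local notation "G" => Cfsg.Spor.Suz

/-- The value of a word. -/
noncomputable def ev (w : List ℕ) : G := (w.map a).prod

theorem a_sq (x : ℕ) : a x * a x = 1 := gen_inv nodes x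

theorem ev_append (v w : List ℕ) : ev (v ++ w) = ev v * ev w := by simp [ev]

theorem ev_nil : ev [] = 1 := rfl

theorem ev_single (x : ℕ) : ev [x] = a x := List.prod_singleton

theorem ev_reverse (w : List ℕ) : ev w.reverse = (ev w)⁻¹ := prod_reverse_eq_inv a a_sq w

theorem rep_succ (w : List ℕ) (k : ℕ) : rep w (k + 1) = w ++ rep w k := rfl

theorem ev_rep (w : List ℕ) : ∀ k, ev (rep w k) = ev w ^ k
  | 0 => (pow_zero _).symm
  | k + 1 => by rw [rep_succ, ev_append, ev_rep w k, pow_succ']

/-- The action on natural numbers. -/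
noncomputable def mv (g : G) (c : ℕ) : ℕ := if h : c < 1782 then ((act g ⟨c, h⟩ : Fin _) : ℕ) else c

theorem mv_lt (g : G) {c : ℕ} (h : c < 1782) : mv g c < 1782 := by
  rw [mv, dif_pos h]; exact Fin.isLt _

theorem mv_coe (g : G) (c : Fin Suz1782.data.n) : mv g c = ((act g c : Fin _) : ℕ) := by
  rw [mv, dif_pos (show (c : ℕ) < 1782 from c.2)]

theorem mv_one (c : ℕ) : mv 1 c = c := by
  unfold mv; split_ifs <;> simp

theorem mv_mul (g h : G) (c : ℕ) : mv (g * h) c = mv g (mv h c) := by
  by_cases hc : c < 1782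
  · simp only [mv, dif_pos hc, dif_pos (show ((act h ⟨c, hc⟩ : Fin _) : ℕ) < 1782 from Fin.isLt _), map_mul,
      Equiv.Perm.mul_apply]
  · simp [mv, hc]

theorem mv_inv_cancel (g : G) (c : ℕ) : mv g⁻¹ (mv g c) = c := by rw [← mv_mul, inv_mul_cancel, mv_one]

theorem mv_injective (g : G) : Function.Injective (mv g) := fun c d h => by
  rw [← mv_inv_cancel g c, h, mv_inv_cancel]

theorem tr_eq {c : ℕ} (hc : c < 1782) (w : List ℕ) : tr c w = mv (ev w)⁻¹ c := by
  rw [mv, dif_pos hc]; exact act_prod w ⟨c, hc⟩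

theorem ext_mv {g h : G} (e : ∀ c < 1782, mv g c = mv h c) : g = h :=
  card_suz_and_faithful.2.1 (Equiv.ext fun c => Fin.ext (by rw [← mv_coe, ← mv_coe]; exact e c c.2))

theorem of_forall {P : ℕ → Bool} {n : ℕ} (h : forallFrom P 0 n = true) {c : ℕ} (hc : c < n) : P c = true :=
  forallFrom_elim h (Nat.zero_le c) (by omega)

theorem eq_of_sameW {v w : List ℕ} (h : sameW v w = true) : ev v = ev w :=
  inv_injective (ext_mv fun c hc => by
    rw [← tr_eq hc, ← tr_eq hc]; exact Nat.eq_of_beq_eq_true (of_forall h hc))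

theorem path_zero {p : ℕ} (hp : p < 1782) : mv (ev (pathP p))⁻¹ 0 = p := by
  rw [← tr_eq (by omega)]; exact Nat.eq_of_beq_eq_true (of_forall path_ok hp)

theorem stab_letters {g : G} (h : mv g 0 = 0) : g ∈ Subgroup.closure {g | ∃ x < 6, g = a x} := by
  obtain ⟨e, he0, he⟩ := Data.exists_equiv Suz1782.valid (gen_sq Cfsg.Agent.S1680.fits)
    (fun _ hx => gen_big Cfsg.Agent.S1680.fits hx) (gen_generates Cfsg.Agent.S1680.fits)
    (map_closure_eq Cfsg.Agent.S1680.fits) (gen_rels Cfsg.Agent.S1680.fits) act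
    (toPerm_gen Suz1782.valid Cfsg.Agent.S1680.fits)
  have h1 : e (QuotientGroup.mk g) = e (QuotientGroup.mk (1 : G)) := by
    have := he g (QuotientGroup.mk (1 : G))
    rw [MulAction.Quotient.smul_coe, smul_eq_mul, mul_one] at this
    rw [this]
    refine Fin.ext ?_
    rw [← mv_coe, he0, h]
  have h2 := e.injective h1
  rw [QuotientGroup.eq, mul_one, inv_mem_iff] at h2
  have hK : g ∈ SuzGroup.L [0, 1, 2, 3, 4, 5] := SuzGroup.K_eq ▸ h2
  refine Subgroup.closure_mono ?_ hK
  rintro _ ⟨x, hx, rfl⟩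
  exact ⟨x, (show ∀ y ∈ [0, 1, 2, 3, 4, 5], y < 6 by decide) x hx, rfl⟩

theorem mv_letter {c : ℕ} (hc : c < 1782) (x : ℕ) : mv (a x) c = tr c [x] := by
  rw [tr_eq hc, ev_single, inv_eq_of_mul_eq_one_right (a_sq x)]

theorem suborbit_keep {g : G} (h : mv g 0 = 0) {c : ℕ} (hc : c < 1782) :
    suborbit.testBit (mv g c) = suborbit.testBit c := by
  have hg := stab_letters h
  clear h
  have step : ∀ x < 6, ∀ c < 1782, suborbit.testBit c = true → suborbit.testBit (mv (a x) c) = true := by
    intro x hx c hc hb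
    have := of_forall suborbit_closed hc
    rw [hb, Bool.not_true, Bool.false_or] at this
    rw [mv_letter hc]
    exact of_forall this hx
  induction hg using Subgroup.closure_induction generalizing c with
  | mem g hg =>
    obtain ⟨x, hx, rfl⟩ := hg
    refine Bool.eq_iff_iff.2 ⟨fun hb => ?_, step x hx c hc⟩
    have := step x hx _ (mv_lt _ hc) hb
    rwa [← mv_mul, a_sq, mv_one] at this
  | one => rw [mv_one]
  | mul g g' _ _ i1 i2 => rw [mv_mul, i1 (mv_lt _ hc), i2 hc]
  | inv g _ i1 =>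
    have := i1 (mv_lt g⁻¹ hc)
    rw [← mv_mul, mul_inv_cancel, mv_one] at this
    exact this.symm

theorem adjP_mv (g : G) {p q : ℕ} (hp : p < 1782) (hq : q < 1782) : adjP (mv g p) (mv g q) = adjP p q := by
  have e : ∀ p q, q < 1782 → adjP p q = suborbit.testBit (mv (ev (pathP p)) q) := fun p q hq => by
    rw [adjP, tr_eq hq, ev_reverse, inv_inv]
  rw [e _ _ (mv_lt g hq), e _ _ hq]
  have hk : mv (ev (pathP (mv g p)) * g * (ev (pathP p))⁻¹) 0 = 0 := by
    rw [mv_mul, path_zero hp, mv_mul]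
    conv_lhs => arg 2; rw [← path_zero (mv_lt g hp)]
    rw [← mv_mul, mul_inv_cancel, mv_one]
  rw [← suborbit_keep hk (mv_lt (ev (pathP p)) hq), ← mv_mul, ← mv_mul]
  congr 2
  group

theorem patt_mv (g : G) {r : ℕ} (hr : r < 1782) : ∀ S : List ℕ, (∀ s ∈ S, s < 1782) →
    patt (S.map (mv g)) (mv g r) = patt S r
  | [], _ => rfl
  | s :: S, h => by
    show cond (adjP (mv g s) (mv g r)) _ _ = cond (adjP s r) _ _
    rw [adjP_mv g (h s List.mem_cons_self) hr]
    show cond (adjP s r) (Nat.add (Nat.mul 2 (patt (S.map (mv g)) (mv g r))) 1) (Nat.mul 2 (patt (S.map (mv g)) (mv g r))) = _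
    rw [patt_mv g hr S fun t ht => h t (List.mem_cons_of_mem _ ht)]
    rfl

/-- The element of order 7. -/
noncomputable def zEl : G := ev zWord

/-- The element commuting with it. -/
noncomputable def vEl : G := ev vWord

theorem tr_zero : zEl * vEl = vEl * zEl := by
  have := eq_of_sameW v_commutes
  rwa [ev_append, ev_append] at this

theorem mv_pow_z {c : ℕ} (hc : c < 1782) (k : ℕ) : tr c (rep zWord k) = mv (zEl ^ k)⁻¹ c := by
  rw [tr_eq hc, ev_rep, zEl]

theorem z_zero : mv zEl 0 = 0 := by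
  have h := List.all_eq_true.1 z_fixed_mem 0 (by decide)
  rw [Nat.beq_eq, tr_eq (by omega)] at h
  conv_lhs => rw [← h, zEl, ← mv_mul, mul_inv_cancel, mv_one]

theorem zpow_zero' (k : ℕ) : mv (zEl ^ k) 0 = 0 := by
  induction k with
  | zero => rw [pow_zero, mv_one]
  | succ k ih => rw [pow_succ, mv_mul, z_zero, ih]

theorem qStart_lt : qStart < 1782 := by decide

theorem cycQ_map : cycQ = (List.range 7).map fun k => tr qStart (rep zWord k) :=
  (beq_iff_eq.1 cycQ_eq).symm

theorem extQ_lt : ∀ e ∈ extQ, e < 1782 := by decide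

theorem head_lt {s : ℕ} (hs : s ∈ 0 :: cycQ) : s < 1782 := (show ∀ s ∈ 0 :: cycQ, s < 1782 by decide) s hs

theorem base_lt {s : ℕ} (hs : s ∈ baseS) : s < 1782 := by
  rcases List.mem_append.1 hs with h | h
  · exact head_lt h
  · exact extQ_lt s h

theorem patt_injective {r r' : ℕ} (hr : r < 1782) (hr' : r' < 1782) (h : patt baseS r = patt baseS r') : r = r' := by
  obtain ⟨hlt, hmono⟩ := Bool.and_eq_true_iff.1 rank_ok
  let F : Fin 1782 → Fin 1782 := fun i => ⟨at16 rankN i, by
    have := of_forall hlt i.2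
    rwa [Nat.blt_eq] at this⟩
  have hstep : ∀ i j : ℕ, i < j → j < 1782 → patt baseS (at16 rankN i) < patt baseS (at16 rankN j) := by
    intro i j hij
    induction hij with
    | refl =>
      intro hj
      have := of_forall hmono (show i < 1781 by omega)
      rwa [Nat.blt_eq] at this
    | step hle ih =>
      intro hj
      refine lt_trans (ih (by omega)) ?_
      rename_i m
      have := of_forall hmono (show m < 1781 by omega)
      rwa [Nat.blt_eq] at this
  have hF : Function.Injective fun i : Fin 1782 => patt baseS (F i) := fun i j e => by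
    rcases lt_trichotomy (i : ℕ) j with h | h | h
    · exact absurd e (ne_of_lt (hstep i j h j.2))
    · exact Fin.ext h
    · exact absurd e.symm (ne_of_lt (hstep j i h i.2))
  have hs : Function.Surjective F := Finite.surjective_of_injective (fun i j e => hF (by simp only [e]))
  obtain ⟨i, hi⟩ := hs ⟨r, hr⟩
  obtain ⟨j, hj⟩ := hs ⟨r', hr'⟩
  have hi' : (F i : ℕ) = r := congrArg Fin.val hi
  have hj' : (F j : ℕ) = r' := congrArg Fin.val hj
  have : i = j := hF (by show patt baseS (F i) = patt baseS (F j); rw [hi', hj', h])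
  rw [← hi', ← hj', this]

theorem maskSeven_bit {c : ℕ} (h : maskSeven.testBit c = true) : ∃ r ∈ repsSeven, c ∈ cycZ r := by
  have inner : ∀ (L : List ℕ) (m : ℕ), (List.rec (motive := fun _ => ℕ) m
      (fun d _ m' => Nat.lor m' (Nat.shiftLeft 1 d)) L : ℕ).testBit c = true → m.testBit c = true ∨ c ∈ L := by
    intro L
    induction L with
    | nil => exact fun m h => Or.inl h
    | cons d L ih =>
      intro m h
      change ((List.rec m (fun d _ m' => Nat.lor m' (Nat.shiftLeft 1 d)) L : ℕ) ||| 1 <<< d).testBit c = true at h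
      rw [Nat.testBit_or, Nat.one_shiftLeft, Nat.testBit_two_pow, Bool.or_eq_true, decide_eq_true_eq] at h
      rcases h with h | h
      · exact (ih m h).imp id (List.mem_cons_of_mem _)
      · exact Or.inr (h ▸ List.mem_cons_self)
  unfold maskSeven at h
  revert h
  generalize repsSeven = R
  intro h
  induction R with
  | nil => simp at h
  | cons r L ih =>
    rcases inner (cycZ r) (List.rec (motive := fun _ => ℕ) 0 (fun c _ m =>
      List.rec (motive := fun _ => ℕ) m (fun d _ m' => Nat.lor m' (Nat.shiftLeft 1 d)) (cycZ c)) L) h with h | h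
    · obtain ⟨s, hs, hc⟩ := ih h
      exact ⟨s, List.mem_cons_of_mem _ hs, hc⟩
    · exact ⟨r, List.mem_cons_self, h⟩

theorem mv_pow_comm {x : G} (hx : x * zEl = zEl * x) (k : ℕ) {c : ℕ} (hc : c < 1782) :
    mv x (tr c (rep zWord k)) = tr (mv x c) (rep zWord k) := by
  rw [mv_pow_z hc, mv_pow_z (mv_lt x hc), ← mv_mul, ← mv_mul,
    ((show Commute x zEl from hx).pow_right k).inv_right.eq]

/-- An element of order 3 commuting with the one of order 7 and fixing the first point. -/
theorem fixed_case {x : G} (hx : x * zEl = zEl * x) (h0 : mv x 0 = 0) (h3 : x * x * x = 1) (h1 : x ≠ 1) :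
    x = vEl ∨ x = vEl⁻¹ := by
  set c := mv x qStart with hc
  have hclt : c < 1782 := mv_lt x qStart_lt
  have htest : firstTest c = true := by
    have e : ∀ k, adjP c (tr c (rep zWord k)) = adjP qStart (tr qStart (rep zWord k)) := fun k => by
      rw [hc, ← mv_pow_comm hx k qStart_lt, adjP_mv x qStart_lt (by
        rw [mv_pow_z qStart_lt]; exact mv_lt _ qStart_lt)]
    have e0 : adjP 0 c = adjP 0 qStart := by
      rw [hc]; conv_lhs => rw [← h0]
      rw [adjP_mv x (by omega) qStart_lt]
    have e1 : tr c zWord = tr c (rep zWord 1) ∧ tr qStart zWord = tr qStart (rep zWord 1) := by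
      constructor <;> simp [rep]
    have hne : Nat.beq (tr c zWord) c = false := Bool.eq_false_iff.2 fun h => by
      have h' : mv x (tr qStart (rep zWord 1)) = c := by
        rw [mv_pow_comm hx 1 qStart_lt, ← hc, ← e1.1]; exact Nat.eq_of_beq_eq_true h
      have := mv_injective x (h'.trans hc)
      rw [← e1.2] at this
      have hz := z_moves
      rw [this] at hz
      simp at hz
    unfold firstTest
    rw [hne, e0, e1.1, e1.2, e 1, e 2, e 3]
    simp
  have hmask : maskSeven.testBit c = true := by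
    have := of_forall first_cover hclt
    rwa [htest, Bool.not_true, Bool.false_or] at this
  obtain ⟨r, hr, hcyc⟩ := maskSeven_bit hmask
  obtain ⟨k, hkmem, hk⟩ := List.mem_map.1 hcyc
  have hklt : k < 7 := List.mem_range.1 hkmem
  have hrlt : r < 1782 := (show ∀ r ∈ repsSeven, r < 1782 by decide +kernel) r hr
  set x' := zEl ^ k * x with hx'
  have hx'z : x' * zEl = zEl * x' := by
    rw [hx', mul_assoc, hx, ← mul_assoc, ← pow_succ, pow_succ', mul_assoc]
  have hx'q : mv x' qStart = r := by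
    rw [hx', mv_mul, ← hc, ← hk, mv_pow_z hrlt, ← mv_mul, mul_inv_cancel, mv_one]
  have hx'0 : mv x' 0 = 0 := by rw [hx', mv_mul, h0, zpow_zero']
  have hhead : (0 :: cycQ).map (mv x') = 0 :: cycZ r := by
    rw [List.map_cons, hx'0, cycQ_map, List.map_map, cycZ]
    congr 1
    refine List.map_congr_left fun j _ => ?_
    rw [Function.comp_apply, mv_pow_comm hx'z j qStart_lt, hx'q]
  have hp : ∀ e, e < 1782 → patt (0 :: cycZ r) (mv x' e) = patt (0 :: cycQ) e := fun e he => by
    rw [← hhead]; exact patt_mv x' he _ fun s hs => head_lt hs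
  rcases List.mem_append.1 hr with hr' | hr'
  · exfalso
    obtain ⟨e, he, rfl⟩ := List.mem_map.1 hr'
    have h := List.all_eq_true.1 killed_ok e he
    unfold killOK at h
    obtain ⟨hlt, hall⟩ := Bool.and_eq_true_iff.1 h
    rw [Nat.blt_eq] at hlt
    have hmem : extQ.getD e.2 0 ∈ extQ := by rw [List.getD_eq_getElem _ _ hlt]; exact List.getElem_mem hlt
    have := of_forall hall (mv_lt x' (extQ_lt _ hmem))
    rw [hp _ (extQ_lt _ hmem)] at this
    simp at this
  obtain ⟨e, he, rfl⟩ := List.mem_map.1 hr'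
  obtain ⟨i, hi, hie⟩ := List.getElem_of_mem he
  have hi6 : i < 6 := by simpa [survSeven] using hi
  have hget : survSeven.getD i (0, 0) = e := by rw [List.getD_eq_getElem _ _ hi, hie]
  have hs : survOK e = true := by
    rw [← hget]
    interval_cases i
    exacts [surv_0, surv_1, surv_2, surv_3, surv_4, surv_5]
  unfold survOK at hs
  obtain ⟨hall, hext⟩ := Bool.and_eq_true_iff.1 hs
  have hrho : ∀ r' < 1782, at16 e.2 r' < 1782 := fun r' hr' => by
    have := (Bool.and_eq_true_iff.1 (of_forall hall hr')).1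
    rwa [Nat.blt_eq] at this
  have hex : ∀ s ∈ extQ, mv x' s = at16 e.2 s := fun s hs => by
    have := of_forall (List.all_eq_true.1 hext s hs) (mv_lt x' (extQ_lt s hs))
    rw [hp s (extQ_lt s hs)] at this
    simpa using this
  have hS : baseS.map (mv x') = 0 :: cycZ e.1 ++ extQ.map fun s => at16 e.2 s := by
    rw [baseS, List.map_append, hhead, List.map_congr_left hex]
  have hrhoeq : ∀ r' < 1782, mv x' r' = at16 e.2 r' := fun r' hr' => by
    have h2 := Nat.eq_of_beq_eq_true (Bool.and_eq_true_iff.1 (of_forall hall hr')).2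
    rw [← hS] at h2
    have h3 : patt baseS (mv x'⁻¹ (at16 e.2 r')) = patt baseS r' := by
      rw [← h2]
      conv_rhs => arg 2; rw [← mv_one (at16 e.2 r'), ← mul_inv_cancel x', mv_mul]
      exact (patt_mv x' (mv_lt _ (hrho r' hr')) _ fun s hs => base_lt hs).symm
    have h4 := patt_injective (mv_lt _ (hrho r' hr')) hr' h3
    conv_lhs => rw [← h4, ← mv_mul, mul_inv_cancel, mv_one]
  have hstep : ∀ p < 1782, stepSeven i k p = mv x p := fun p hp' => by
    unfold stepSeven
    rw [hget, mv_pow_z hp', ← hrhoeq _ (mv_lt _ hp'), ← mv_mul, hx',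
      mul_assoc, ((show Commute x zEl from hx).pow_right k).inv_right.eq, ← mul_assoc, mul_inv_cancel, one_mul]
  have hcube := List.all_eq_true.1 (List.all_eq_true.1 cubes i (List.mem_range.2 hi6)) k (List.mem_range.2 hklt)
  unfold cubeOK at hcube
  rw [Bool.or_eq_true] at hcube
  rcases hcube with hcube | hcube
  swap
  · exfalso
    obtain ⟨hplt, hne⟩ := Bool.and_eq_true_iff.1 hcube
    rw [Nat.blt_eq] at hplt
    rw [hstep _ hplt, hstep _ (mv_lt x hplt), hstep _ (mv_lt x (mv_lt x hplt)), ← mv_mul, ← mv_mul, h3,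
      mv_one] at hne
    simp at hne
  obtain ⟨hk0, hkind⟩ := Bool.and_eq_true_iff.1 hcube
  have hk0' : k = 0 := Nat.eq_of_beq_eq_true hk0
  have hxx : x' = x := by rw [hx', hk0', pow_zero, one_mul]
  have hko : kindOK i = true := by
    interval_cases i
    exacts [kind_0, kind_1, kind_2, kind_3, kind_4, kind_5]
  unfold kindOK at hko
  rw [Bool.not_eq_true'] at hkind
  simp only [hkind, Bool.false_or] at hko
  set w := [[], [], vWord, vWord.reverse].getD (kindSeven.getD i 0) [] with hw
  have hxw : x = (ev w)⁻¹ := ext_mv fun p hp' => by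
    rw [← tr_eq hp', ← hxx, hrhoeq p hp']
    have := Nat.eq_of_beq_eq_true (of_forall hko hp')
    rwa [hget] at this
  have hwc : w = [] ∨ w = vWord ∨ w = vWord.reverse := by
    rw [hw]
    generalize kindSeven.getD i 0 = j
    match j with
    | 0 => exact Or.inl rfl
    | 1 => exact Or.inl rfl
    | 2 => exact Or.inr (Or.inl rfl)
    | 3 => exact Or.inr (Or.inr rfl)
    | j + 4 => exact Or.inl rfl
  rcases hwc with h | h | h <;> rw [h] at hxw
  · exact absurd (hxw.trans (by rw [ev_nil, inv_one])) h1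
  · exact Or.inr hxw
  · refine Or.inl ?_
    rw [hxw, ev_reverse, inv_inv]; rfl

theorem four_fixed : ∀ f : Fin 4 → Fin 4, (∀ i, f (f (f i)) = i) → ∃ i, f i = i := by decide +kernel

theorem u_inverted : ∃ t : G, (ev uWord)⁻¹ = t⁻¹ * ev uWord * t := by
  obtain ⟨x, -, hx⟩ := List.any_eq_true.1 inverted
  have := eq_of_sameW hx
  rw [ev_append, ev_append, ev_reverse, ev_single] at this
  exact ⟨a x, by rw [inv_eq_of_mul_eq_one_right (a_sq x), this]⟩

theorem conj_u {x : G} (hx : x * zEl = zEl * x) (h3 : x * x * x = 1) (h1 : x ≠ 1) :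
    ∃ g : G, x = g⁻¹ * ev uWord * g := by
  have hfix : ∀ i : Fin 4, mv x (fixZ.getD i 0) ∈ fixZ ∧ fixZ.getD i 0 < 1782 := fun i => by
    have hm : fixZ.getD i 0 ∈ fixZ := (show ∀ j : Fin 4, fixZ.getD j 0 ∈ fixZ by decide) i
    have hlt := (show ∀ p ∈ fixZ, p < 1782 by decide) _ hm
    refine ⟨?_, hlt⟩
    have hz := Nat.eq_of_beq_eq_true (List.all_eq_true.1 z_fixed_mem _ hm)
    have h := of_forall z_fixed (mv_lt x hlt)
    rw [show tr (mv x (fixZ.getD i 0)) zWord = mv x (fixZ.getD i 0) by
      rw [tr_eq (mv_lt x hlt), ← mv_mul, show (ev zWord)⁻¹ * x = x * (ev zWord)⁻¹ from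
        ((show Commute x zEl from hx).inv_right).eq.symm, mv_mul, ← tr_eq hlt, hz]] at h
    simpa using h
  have hex : ∀ i : Fin 4, ∃ j : Fin 4, fixZ.getD j 0 = mv x (fixZ.getD i 0) := fun i =>
    (show ∀ p ∈ fixZ, ∃ j : Fin 4, fixZ.getD j 0 = p by decide) _ (hfix i).1
  choose f hf using hex
  have hinj : ∀ i j : Fin 4, fixZ.getD i 0 = fixZ.getD j 0 → i = j := by decide
  obtain ⟨i, hi⟩ := four_fixed f fun i => hinj _ _ (by
    rw [hf, hf, hf, ← mv_mul, ← mv_mul, h3, mv_one])
  have hip : mv x (fixZ.getD i 0) = fixZ.getD i 0 := by rw [← hf, hi]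
  obtain ⟨ht0, htc⟩ := Bool.and_eq_true_iff.1 (List.all_eq_true.1 trans_ok i (List.mem_range.2 i.2))
  set t := ev (transZ.getD i [])
  have htz : Commute zEl t := by
    have := eq_of_sameW htc
    rwa [ev_append, ev_append] at this
  have ht : mv t⁻¹ (fixZ.getD i 0) = 0 := by rw [← tr_eq (hfix i).2]; exact Nat.eq_of_beq_eq_true ht0
  have hv : ∀ v : G, t⁻¹ * x * t = v → x = t * v * t⁻¹ := fun v hv => by rw [← hv]; group
  have hfp : mv (t⁻¹ * x * t) 0 = 0 := by
    rw [mv_mul, ← ht, ← mv_mul t t⁻¹, mul_inv_cancel, mv_one, mv_mul, hip]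
  have hvd : vEl = (ev vPath)⁻¹ * ev uWord * ev vPath := by
    rw [vEl, vWord, ev_append, ev_append, ev_reverse]
  rcases fixed_case (x := t⁻¹ * x * t)
    (by
      show Commute _ zEl
      exact (htz.symm.inv_left.mul_left (show Commute x zEl from hx)).mul_left htz.symm)
    hfp (by rw [show t⁻¹ * x * t * (t⁻¹ * x * t) * (t⁻¹ * x * t) = t⁻¹ * (x * x * x) * t by group, h3]; group)
    (fun e => h1 (by rw [hv 1 e]; group)) with h | h
  · exact ⟨ev vPath * t⁻¹, by rw [hv _ h, hvd]; group⟩
  · obtain ⟨s, hs⟩ := u_inverted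
    refine ⟨s * ev vPath * t⁻¹, ?_⟩
    rw [hv _ h, hvd, show ((ev vPath)⁻¹ * ev uWord * ev vPath)⁻¹ = (ev vPath)⁻¹ * (ev uWord)⁻¹ * ev vPath by group, hs]
    group

/-- A Sylow element of prime order is carried to a power of itself. -/
theorem power_image {p : ℕ} [Fact p.Prime] {y : G} (hy : orderOf y = p)
    (hf : (448345497600 : ℕ).factorization p = 1) (α : G ≃* G) :
    ∃ g : G, g * α y * g⁻¹ ∈ Subgroup.zpowers y ∧ y ∈ Subgroup.zpowers (g * α y * g⁻¹) := by
  have hc : ∀ g : G, orderOf g = p → Nat.card (Subgroup.zpowers g) = p ^ (Nat.card G).factorization p := by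
    intro g hg
    rw [Nat.card_zpowers, hg, card_suz_and_faithful.1, hf, pow_one]
  let P : Sylow p G := Sylow.ofCard (Subgroup.zpowers y) (hc y hy)
  let P' : Sylow p G := Sylow.ofCard (Subgroup.zpowers (α y)) (hc _ (by rw [MulEquiv.orderOf_eq, hy]))
  obtain ⟨g, hg⟩ := MulAction.exists_smul_eq G P' P
  have hmem : g * α y * g⁻¹ ∈ Subgroup.zpowers y := by
    have h := Subgroup.smul_mem_pointwise_smul (α y) (MulAut.conj g) (P' : Subgroup G) (Subgroup.mem_zpowers _)
    have e : (P : Subgroup G) = MulAut.conj g • (P' : Subgroup G) := by rw [← hg]; rfl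
    rw [← e] at h
    exact h
  refine ⟨g, hmem, ?_⟩
  have h : (⟨y, Subgroup.mem_zpowers y⟩ : Subgroup.zpowers y) ∈
      Subgroup.zpowers (⟨g * α y * g⁻¹, hmem⟩ : Subgroup.zpowers y) := by
    refine mem_zpowers_of_prime_card (p := p) (by rw [Nat.card_zpowers, hy]) ?_
    intro e
    have e' := congrArg Subtype.val e
    rw [OneMemClass.coe_one, conj_eq_one_iff, map_eq_one_iff α α.injective] at e'
    rw [e', orderOf_one] at hy
    exact (Fact.out : p.Prime).ne_one hy.symm
  obtain ⟨k, hk⟩ := Subgroup.mem_zpowers_iff.1 h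
  exact Subgroup.mem_zpowers_iff.2 ⟨k, congrArg Subtype.val hk⟩

theorem orderOf_zEl : orderOf zEl = 7 := by
  have : Fact (Nat.Prime 7) := ⟨by norm_num⟩
  refine orderOf_eq_prime ?_ fun e => ?_
  · rw [zEl, ← ev_rep, eq_of_sameW z_power, ev_nil]
  · have hz := z_moves
    rw [tr_eq qStart_lt, ← zEl, e, inv_one, mv_one] at hz
    simp at hz

theorem u_ne_one : ev uWord ≠ 1 := fun e => by
  obtain ⟨c, hc, h⟩ := List.any_eq_true.1 u_moves
  rw [tr_eq (List.mem_range.1 hc), e, inv_one, mv_one] at h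
  simp at h

theorem u_cubed : ev uWord * ev uWord * ev uWord = 1 := by
  rw [← pow_two, ← pow_succ, ← ev_rep, eq_of_sameW u_cube, ev_nil]

/-- Automorphisms keep the class of the element of order 3. -/
theorem image_u (α : G ≃* G) : ∃ g : G, α (ev uWord) = g⁻¹ * ev uWord * g := by
  have : Fact (Nat.Prime 7) := ⟨by norm_num⟩
  obtain ⟨g, -, hfull⟩ := power_image orderOf_zEl (by
    rw [show (448345497600 : ℕ) = 7 * 64049356800 by norm_num, Nat.factorization_mul (by norm_num) (by norm_num),
      Finsupp.add_apply, Nat.Prime.factorization_self (by norm_num), Nat.factorization_eq_zero_of_not_dvd (by norm_num)]) α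
  have hvd : vEl = (ev vPath)⁻¹ * ev uWord * ev vPath := by rw [vEl, vWord, ev_append, ev_append, ev_reverse]
  have hv3 : vEl * vEl * vEl = 1 := by
    rw [hvd, show (ev vPath)⁻¹ * ev uWord * ev vPath * ((ev vPath)⁻¹ * ev uWord * ev vPath) *
      ((ev vPath)⁻¹ * ev uWord * ev vPath) = (ev vPath)⁻¹ * (ev uWord * ev uWord * ev uWord) * ev vPath by group,
      u_cubed]
    group
  obtain ⟨m, hm⟩ := Subgroup.mem_zpowers_iff.1 hfull
  obtain ⟨h, hh⟩ := conj_u (x := g * α vEl * g⁻¹) (by
      rw [← hm]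
      refine (Commute.zpow_right (?_ : Commute (g * α vEl * g⁻¹) (g * α zEl * g⁻¹)) m).eq
      show _ = _
      calc g * α vEl * g⁻¹ * (g * α zEl * g⁻¹) = g * α (vEl * zEl) * g⁻¹ := by rw [map_mul]; group
        _ = _ := by rw [← tr_zero, map_mul]; group)
    (by rw [show g * α vEl * g⁻¹ * (g * α vEl * g⁻¹) * (g * α vEl * g⁻¹) = g * (α vEl * α vEl * α vEl) * g⁻¹ by group,
      ← map_mul, ← map_mul, hv3, map_one, mul_one, mul_inv_cancel])
    (fun e => u_ne_one (by
      rw [conj_eq_one_iff, map_eq_one_iff α α.injective, hvd] at e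
      calc ev uWord = ev vPath * ((ev vPath)⁻¹ * ev uWord * ev vPath) * (ev vPath)⁻¹ := by group
        _ = 1 := by rw [e]; group))
  refine ⟨h * g * (α (ev vPath))⁻¹, ?_⟩
  calc α (ev uWord) = α (ev vPath * vEl * (ev vPath)⁻¹) := by rw [hvd]; congr 1; group
    _ = α (ev vPath) * g⁻¹ * (g * α vEl * g⁻¹) * g * (α (ev vPath))⁻¹ := by rw [map_mul, map_mul, map_inv]; group
    _ = _ := by rw [hh]; group

end CfsgLib.Recog.SporBound.SuzAut
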