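import Cfsg.Agent.Lib.Recog.SporBound.SuzAut.Defs

set_option autoImplicit false
set_option maxRecDepth 20000
set_option Elab.async false

/-! Kernel checks for the automorphism group of Suz (owner: helper18). -/

namespace CfsgLib.Recog.SporBound.SuzAut

open CfsgLib.ThreeTrans.CosetIndex

theorem sig_0 : forallFrom (fun c => Nat.beq (tr (at16 piN c) (sigWords.getD 0 [])) (at16 piN (tr c [0]))) 0 1782 = true := by decide +kernel

theorem sig_1 : forallFrom (fun c => Nat.beq (tr (at16 piN c) (sigWords.getD 1 [])) (at16 piN (tr c [1]))) 0 1782 = true := by decide +kernel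

theorem sig_2 : forallFrom (fun c => Nat.beq (tr (at16 piN c) (sigWords.getD 2 [])) (at16 piN (tr c [2]))) 0 1782 = true := by decide +kernel

theorem sig_3 : forallFrom (fun c => Nat.beq (tr (at16 piN c) (sigWords.getD 3 [])) (at16 piN (tr c [3]))) 0 1782 = true := by decide +kernel

theorem sig_4 : forallFrom (fun c => Nat.beq (tr (at16 piN c) (sigWords.getD 4 [])) (at16 piN (tr c [4]))) 0 1782 = true := by decide +kernel

theorem sig_5 : forallFrom (fun c => Nat.beq (tr (at16 piN c) (sigWords.getD 5 [])) (at16 piN (tr c [5]))) 0 1782 = true := by decide +kernel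

theorem sig_6 : forallFrom (fun c => Nat.beq (tr (at16 piN c) (sigWords.getD 6 [])) (at16 piN (tr c [6]))) 0 1782 = true := by decide +kernel

theorem pi_range : forallFrom (fun c => Nat.blt (at16 piN c) 1782) 0 1782 = true := by decide +kernel

theorem sift_agrees : ((SuzChain.levels.take 7).all fun l => Nat.beq (tr l.pt siftWord) (at16 piN l.pt)) = true := by decide +kernel

end CfsgLib.Recog.SporBound.SuzAut
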