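import Cfsg.Agent.Lib.Recog.SporBound.SuzAut.ChecksAGen
import Cfsg.Agent.Lib.Recog.SporBound.SuzAut.ChecksASig

set_option autoImplicit false
set_option maxRecDepth 20000
set_option Elab.async false

/-! Kernel checks for the automorphism group of Suz (owner: helper18). -/

namespace CfsgLib.Recog.SporBound.SuzAut

open CfsgLib.ThreeTrans.CosetIndex

theorem path_ok : forallFrom (fun p => Nat.beq (tr 0 (pathP p)) p) 0 1782 = true := by decide +kernel

theorem y_power : sameW (rep yWord 11) [] = true := by decide +kernel

theorem y_moves : Nat.beq (tr 0 yWord) 0 = false := by decide +kernel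

theorem z_power : sameW (rep zWord 7) [] = true := by decide +kernel

theorem z_moves : Nat.beq (tr qStart zWord) qStart = false := by decide +kernel

theorem v_commutes : sameW (zWord ++ vWord) (vWord ++ zWord) = true := by decide +kernel

theorem u_cube : sameW (rep uWord 3) [] = true := by decide +kernel

theorem u_moves : ((List.range 1782).any fun c => !Nat.beq (tr c uWord) c) = true := by decide +kernel

theorem g_squares : sameW (yWord ++ gWord) (gWord ++ yWord ++ yWord) = true := by decide +kernel

theorem norm_0 : (sameW ([0] ++ uWord ++ [0]) uWord || sameW ([0] ++ uWord ++ [0]) uWord.reverse) = true := by decide +kernel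

theorem norm_1 : (sameW ([1] ++ uWord ++ [1]) uWord || sameW ([1] ++ uWord ++ [1]) uWord.reverse) = true := by decide +kernel

theorem norm_2 : (sameW ([2] ++ uWord ++ [2]) uWord || sameW ([2] ++ uWord ++ [2]) uWord.reverse) = true := by decide +kernel

theorem norm_3 : (sameW ([3] ++ uWord ++ [3]) uWord || sameW ([3] ++ uWord ++ [3]) uWord.reverse) = true := by decide +kernel

theorem norm_5 : (sameW ([5] ++ uWord ++ [5]) uWord || sameW ([5] ++ uWord ++ [5]) uWord.reverse) = true := by decide +kernel

theorem norm_6 : (sameW ([6] ++ uWord ++ [6]) uWord || sameW ([6] ++ uWord ++ [6]) uWord.reverse) = true := by decide +kernel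

theorem inverted : ([0, 1, 2, 3, 5, 6].any fun x => sameW ([x] ++ uWord ++ [x]) uWord.reverse) = true := by decide +kernel

end CfsgLib.Recog.SporBound.SuzAut
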