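import Cfsg.Agent.Lib.Recog.SporBound.SuzAut.Defs

set_option autoImplicit false
set_option maxRecDepth 20000
set_option Elab.async false

/-! Kernel checks for the automorphism group of Suz (owner: helper18). -/

namespace CfsgLib.Recog.SporBound.SuzAut

open CfsgLib.ThreeTrans.CosetIndex

theorem gen_0 : (match genBlocks.getD 0 (0, []) with | (x, bs) => sameW [x] (bs.flatMap block)) = true := by decide +kernel

theorem gen_1 : (match genBlocks.getD 1 (0, []) with | (x, bs) => sameW [x] (bs.flatMap block)) = true := by decide +kernel

theorem gen_2 : (match genBlocks.getD 2 (0, []) with | (x, bs) => sameW [x] (bs.flatMap block)) = true := by decide +kernel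

theorem gen_3 : (match genBlocks.getD 3 (0, []) with | (x, bs) => sameW [x] (bs.flatMap block)) = true := by decide +kernel

theorem gen_4 : (match genBlocks.getD 4 (0, []) with | (x, bs) => sameW [x] (bs.flatMap block)) = true := by decide +kernel

theorem gen_5 : (match genBlocks.getD 5 (0, []) with | (x, bs) => sameW [x] (bs.flatMap block)) = true := by decide +kernel

theorem gen_6 : (match genBlocks.getD 6 (0, []) with | (x, bs) => sameW [x] (bs.flatMap block)) = true := by decide +kernel

theorem ref_5 : sameW (rep (uWord ++ rep yWord 5) (orderRef 5)) [] = true := by decide +kernel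

theorem ref_6 : sameW (rep (uWord ++ rep yWord 6) (orderRef 6)) [] = true := by decide +kernel

end CfsgLib.Recog.SporBound.SuzAut
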