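import Cfsg.Agent.Lib.Recog.SporBound.SuzAut.Defs

set_option autoImplicit false
set_option maxRecDepth 20000
set_option Elab.async false

/-! Kernel checks for the automorphism group of Suz (owner: helper18). -/

namespace CfsgLib.Recog.SporBound.SuzAut

open CfsgLib.ThreeTrans.CosetIndex

theorem orbits_ok_0 : orbits0.all orbitOK = true := by decide +kernel

theorem cover_ok_0 : Nat.beq (coverOf orbits0) cover0 = true := by decide +kernel

theorem orbits_ok_1 : orbits1.all orbitOK = true := by decide +kernel

theorem cover_ok_1 : Nat.beq (coverOf orbits1) cover1 = true := by decide +kernel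

theorem orbits_ok_2 : orbits2.all orbitOK = true := by decide +kernel

theorem cover_ok_2 : Nat.beq (coverOf orbits2) cover2 = true := by decide +kernel

theorem orbits_ok_3 : orbits3.all orbitOK = true := by decide +kernel

theorem cover_ok_3 : Nat.beq (coverOf orbits3) cover3 = true := by decide +kernel

theorem orbits_ok_4 : orbits4.all orbitOK = true := by decide +kernel

theorem cover_ok_4 : Nat.beq (coverOf orbits4) cover4 = true := by decide +kernel

theorem orbits_ok_5 : orbits5.all orbitOK = true := by decide +kernel

theorem cover_ok_5 : Nat.beq (coverOf orbits5) cover5 = true := by decide +kernel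

theorem orbits_ok_6 : orbits6.all orbitOK = true := by decide +kernel

theorem cover_ok_6 : Nat.beq (coverOf orbits6) cover6 = true := by decide +kernel

theorem orbits_ok_7 : orbits7.all orbitOK = true := by decide +kernel

theorem cover_ok_7 : Nat.beq (coverOf orbits7) cover7 = true := by decide +kernel

theorem cover_all : Nat.beq (Nat.lor (Nat.lor (Nat.lor (Nat.lor (Nat.lor (Nat.lor (Nat.lor (cover0) cover1) cover2) cover3) cover4) cover5) cover6) cover7) (2 ^ 22880 - 1) = true := by decide +kernel

end CfsgLib.Recog.SporBound.SuzAut
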