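import Cfsg.Agent.Lib.Recog.SporBound.SuzAut.Data
import Cfsg.Agent.Lib.ThreeTrans.CosetIndex.Suz1782.Data
import Cfsg.Agent.Lib.ThreeTrans.CosetIndex.Suz22880.Data
import Cfsg.Agent.Lib.Recog.SporBound.SuzChain.Data

set_option autoImplicit false
set_option maxRecDepth 20000

/-! The computations behind the automorphism group of Suz (owner: helper18). -/

namespace CfsgLib.Recog.SporBound.SuzAut

open CfsgLib.ThreeTrans.CosetIndex

/-- Tracing on the 1782 points. -/
noncomputable def tr (c : ℕ) (w : List ℕ) : ℕ := Suz1782.data.trace c w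

/-- Tracing on the 22880 cosets. -/
noncomputable def tr2 (c : ℕ) (w : List ℕ) : ℕ := Suz22880.data.trace c w

/-- Two words act alike. -/
noncomputable def sameW (v w : List ℕ) : Bool := forallFrom (fun c => Nat.beq (tr c v) (tr c w)) 0 1782

/-- Copies of a word. -/
noncomputable def rep (w : List ℕ) (k : ℕ) : List ℕ :=
  Nat.rec (motive := fun _ => List ℕ) [] (fun _ L => w ++ L) k

/-- A word stored in base 8. -/
noncomputable def decodeW (code : ℕ) : List ℕ :=
  Nat.rec (motive := fun _ => ℕ → List ℕ) (fun _ => [])
    (fun _ ih c => cond (Nat.beq c 0) [] (Nat.sub (Nat.land c 7) 1 :: ih (Nat.shiftRight c 3))) 32 code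

/-- The word to a point. -/
noncomputable def pathP (p : ℕ) : List ℕ := decodeW (pathT.get p)

/-- The element commuting with the element of order 7. -/
def vWord : List ℕ := vPath.reverse ++ uWord ++ vPath

/-- Adjacency in the graph of the suborbit. -/
noncomputable def adjP (p q : ℕ) : Bool := suborbit.testBit (tr q (pathP p).reverse)

/-- The pattern of a point against a list. -/
noncomputable def patt (S : List ℕ) (r : ℕ) : ℕ :=
  List.rec (motive := fun _ => ℕ) 0 (fun s _ v => cond (adjP s r) (Nat.add (Nat.mul 2 v) 1) (Nat.mul 2 v)) S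

/-- The cycle of a point under the element of order 7. -/
noncomputable def cycZ (c : ℕ) : List ℕ := (List.range 7).map fun k => tr c (rep zWord k)

/-- The list against which patterns are taken. -/
noncomputable def baseS : List ℕ := 0 :: cycQ ++ extQ

/-- The test on the image of the moved point. -/
noncomputable def firstTest (c : ℕ) : Bool :=
  !Nat.beq (tr c zWord) c && ((adjP 0 c == adjP 0 qStart) &&
    ((adjP c (tr c zWord) == adjP qStart (tr qStart zWord)) &&
      ((adjP c (tr c (rep zWord 2)) == adjP qStart (tr qStart (rep zWord 2))) &&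
        (adjP c (tr c (rep zWord 3)) == adjP qStart (tr qStart (rep zWord 3))))))

/-- The representatives of the images. -/
noncomputable def repsSeven : List ℕ := killedSeven.map Prod.fst ++ survSeven.map Prod.fst

/-- The mask of their cycles. -/
noncomputable def maskSeven : ℕ :=
  List.rec (motive := fun _ => ℕ) 0 (fun c _ m =>
    List.rec (motive := fun _ => ℕ) m (fun d _ m' => Nat.lor m' (Nat.shiftLeft 1 d)) (cycZ c)) repsSeven

/-- An image is impossible: a pattern is missing. -/
noncomputable def killOK (e : ℕ × ℕ) : Bool :=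
  let S := 0 :: cycZ e.1
  let v := patt (0 :: cycQ) (extQ.getD e.2 0)
  Nat.blt e.2 extQ.length && forallFrom (fun r => !Nat.beq (patt S r) v) 0 1782

/-- A possible image with its map of the graph. -/
noncomputable def survOK (e : ℕ × ℕ) : Bool :=
  let S := 0 :: cycZ e.1
  let S' := S ++ extQ.map fun x => at16 e.2 x
  forallFrom (fun r => Nat.blt (at16 e.2 r) 1782 && Nat.beq (patt S' (at16 e.2 r)) (patt baseS r)) 0 1782 &&
    extQ.all fun x =>
      forallFrom (fun r => Nat.beq r (at16 e.2 x) || !Nat.beq (patt S r) (patt (0 :: cycQ) x)) 0 1782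

/-- One step of a composed map. -/
noncomputable def stepSeven (i a r : ℕ) : ℕ := at16 (survSeven.getD i (0, 0)).2 (tr r (rep zWord a))

/-- A map is a known power or has a cube moving a point. -/
noncomputable def cubeOK (i a : ℕ) : Bool :=
  let p := (movedSeven.getD i []).getD a 0
  let k := kindSeven.getD i 0
  (Nat.beq a 0 && !Nat.beq k 0) || (Nat.blt p 1782 && !Nat.beq (stepSeven i a (stepSeven i a (stepSeven i a p))) p)

/-- A map agrees with the listed word. -/
noncomputable def kindOK (i : ℕ) : Bool :=
  let k := kindSeven.getD i 0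
  let w := [[], [], vWord, vWord.reverse].getD k []
  Nat.beq k 0 || forallFrom (fun r => Nat.beq (at16 (survSeven.getD i (0, 0)).2 r) (tr r w)) 0 1782

/-- A block of the generation words. -/
def block : ℕ → List ℕ
  | 7 => uWord
  | 8 => uWord.reverse
  | 9 => yWord
  | x => [x]

/-- The word of a candidate image. -/
def candWord (inverted : Bool) (p : List ℕ) : List ℕ :=
  cond inverted (p.reverse ++ uWord.reverse ++ p) (p.reverse ++ uWord ++ p)

/-- The order of the product with a power. -/
def orderRef (k : ℕ) : ℕ := cond (Nat.beq k 5) 7 6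

/-- A candidate fails a relation. -/
noncomputable def failsOK (inverted : Bool) (p : List ℕ) (k pt : ℕ) : Bool :=
  (Nat.beq k 5 || Nat.beq k 6) && (Nat.blt pt 1782 &&
    !Nat.beq (tr pt (rep (candWord inverted p ++ rep yWord k) (orderRef k))) pt)

/-- A representative is excluded or is one of the two images. -/
noncomputable def orbitOK (e : ℕ × ℕ × ℕ × ℕ × ℕ) : Bool :=
  let p := decodeW e.1
  (failsOK false p e.2.1 e.2.2.1 || p == []) && (failsOK true p e.2.2.2.1 e.2.2.2.2 || p == secondPath)

/-- The cosets in the orbits of the representatives. -/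
noncomputable def coverOf (L : List (ℕ × ℕ × ℕ × ℕ × ℕ)) : ℕ :=
  List.rec (motive := fun _ => ℕ) 0 (fun e _ m =>
    Nat.rec (motive := fun _ => ℕ → ℕ → ℕ) (fun _ m' => m')
      (fun _ ih c m' => ih (tr2 c yWord) (Nat.lor m' (Nat.shiftLeft 1 c))) 11 (tr2 0 (decodeW e.1)) m) L

end CfsgLib.Recog.SporBound.SuzAut
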