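import Cfsg.Agent.Lib.Recog.SporBound.SuzAut.Base
import Cfsg.Agent.Lib.Recog.SporBound.SuzAut.ChecksC

set_option autoImplicit false
set_option maxRecDepth 20000

/-!
The outer automorphism group of Suz has order 2 (owner: helper18).

Up to inner automorphisms the element of order 11 is fixed and the one of order 3 has two possible images; a
permutation normalising the group on the 1782 points and outside it gives the outer one.
-/

namespace CfsgLib.Recog.SporBound.SuzAut

open Cfsg CfsgLib.ThreeTrans.CosetIndex CfsgLib.Recog.SporBound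
open CfsgLib.Recog.SporBound.SuzGroup (a act finite_suz card_suz_and_faithful nodes)
open CfsgLib.Recog.SporBound.OrbitChain (Level total chainOK levelOK maskFrom fixSet exists_of_mask)

attribute [local instance] finite_suz

local notation "G" => Cfsg.Spor.Suz

/-- The action on the 22880 cosets. -/
noncomputable abbrev act2 : G →* Equiv.Perm (Fin Suz22880.data.n) := toPerm Suz22880.valid Cfsg.Agent.S1681.fits

theorem tr2_eq (c : Fin Suz22880.data.n) (w : List ℕ) : tr2 c w = ((act2 (ev w)⁻¹ c : Fin _) : ℕ) :=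
  trace_smul Suz22880.valid Cfsg.Agent.S1681.fits c w

theorem tr2_append (v w : List ℕ) : ∀ c, tr2 c (v ++ w) = tr2 (tr2 c v) w := by
  induction v with
  | nil => exact fun _ => rfl
  | cons x v ih => exact fun c => ih _

theorem stab2 {g : G} (h : act2 g ⟨0, Suz22880.valid.base.1⟩ = ⟨0, Suz22880.valid.base.1⟩) :
    g * ev uWord * g⁻¹ = ev uWord ∨ g * ev uWord * g⁻¹ = (ev uWord)⁻¹ := by
  obtain ⟨e, he0, he⟩ := Data.exists_equiv Suz22880.valid (gen_sq Cfsg.Agent.S1681.fits)
    (fun _ hx => gen_big Cfsg.Agent.S1681.fits hx) (gen_generates Cfsg.Agent.S1681.fits)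
    (map_closure_eq Cfsg.Agent.S1681.fits) (gen_rels Cfsg.Agent.S1681.fits) act2
    (toPerm_gen Suz22880.valid Cfsg.Agent.S1681.fits)
  have h1 : e (QuotientGroup.mk g) = e (QuotientGroup.mk (1 : G)) := by
    have := he g (QuotientGroup.mk (1 : G))
    rw [MulAction.Quotient.smul_coe, smul_eq_mul, mul_one] at this
    rw [this, show e (QuotientGroup.mk (1 : G)) = ⟨0, Suz22880.valid.base.1⟩ from Fin.ext he0, h]
  have h2 := e.injective h1
  rw [QuotientGroup.eq, mul_one, inv_mem_iff, map_closure_eq Cfsg.Agent.S1681.fits] at h2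
  have flip : ∀ k : G, k * ev uWord * k⁻¹ = (ev uWord)⁻¹ → k * (ev uWord)⁻¹ * k⁻¹ = ev uWord := fun k hk => by
    rw [show k * (ev uWord)⁻¹ * k⁻¹ = (k * ev uWord * k⁻¹)⁻¹ by group, hk, inv_inv]
  clear h h1
  induction h2 using Subgroup.closure_induction with
  | mem k hk =>
    obtain ⟨w, hw, rfl⟩ := hk
    show ev w * ev uWord * (ev w)⁻¹ = _ ∨ ev w * ev uWord * (ev w)⁻¹ = _
    have hn : ∀ x, (sameW ([x] ++ uWord ++ [x]) uWord || sameW ([x] ++ uWord ++ [x]) uWord.reverse) = true →
        ev [x] * ev uWord * (ev [x])⁻¹ = ev uWord ∨ ev [x] * ev uWord * (ev [x])⁻¹ = (ev uWord)⁻¹ := fun x hx => by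
      rw [ev_single, inv_eq_of_mul_eq_one_right (a_sq x), ← ev_reverse, ← ev_single, ← ev_append, ← ev_append]
      rcases Bool.or_eq_true_iff.1 hx with h | h
      · exact Or.inl (eq_of_sameW h)
      · exact Or.inr (eq_of_sameW h)
    have hmem : w ∈ [[0], [1], [2], [3], [5], [6]] := hw
    simp only [List.mem_cons, List.not_mem_nil, or_false] at hmem
    rcases hmem with rfl | rfl | rfl | rfl | rfl | rfl
    exacts [hn 0 norm_0, hn 1 norm_1, hn 2 norm_2, hn 3 norm_3, hn 5 norm_5, hn 6 norm_6]
  | one => left; group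
  | mul k k' _ _ i1 i2 =>
    have e' : k * k' * ev uWord * (k * k')⁻¹ = k * (k' * ev uWord * k'⁻¹) * k⁻¹ := by group
    rcases i2 with i2 | i2 <;> rw [e', i2]
    · exact i1
    · rcases i1 with i1 | i1
      · right; rw [show k * (ev uWord)⁻¹ * k⁻¹ = (k * ev uWord * k⁻¹)⁻¹ by group, i1]
      · exact Or.inl (flip k i1)
  | inv k _ i1 =>
    rcases i1 with i1 | i1
    · left; conv_lhs => rw [← i1]
      group
    · right; conv_lhs => rw [← flip k i1]
      group

theorem coverOf_bit {L : List (ℕ × ℕ × ℕ × ℕ × ℕ)} {d : ℕ} (h : (coverOf L).testBit d = true) :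
    ∃ e ∈ L, ∃ j < 11, d = tr2 0 (decodeW e.1 ++ rep yWord j) := by
  have inner : ∀ k c m, (Nat.rec (motive := fun _ => ℕ → ℕ → ℕ) (fun _ m' => m')
      (fun _ ih c m' => ih (tr2 c yWord) (Nat.lor m' (Nat.shiftLeft 1 c))) k c m).testBit d = true →
      m.testBit d = true ∨ ∃ j < k, d = tr2 c (rep yWord j) := by
    intro k
    induction k with
    | zero => exact fun c m h => Or.inl h
    | succ k ih =>
      intro c m h
      rcases ih (tr2 c yWord) (Nat.lor m (Nat.shiftLeft 1 c)) h with h | ⟨j, hj, hd⟩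
      · change (m ||| 1 <<< c).testBit d = true at h
        rw [Nat.testBit_or, Nat.one_shiftLeft, Nat.testBit_two_pow, Bool.or_eq_true, decide_eq_true_eq] at h
        rcases h with h | h
        · exact Or.inl h
        · exact Or.inr ⟨0, by omega, h.symm⟩
      · exact Or.inr ⟨j + 1, by omega, by rw [hd, rep_succ, tr2_append]⟩
  induction L with
  | nil => exact absurd h (by simp [coverOf])
  | cons e L ih =>
    rcases inner 11 _ _ h with h | ⟨j, hj, hd⟩
    · obtain ⟨e', he', h'⟩ := ih h
      exact ⟨e', List.mem_cons_of_mem _ he', h'⟩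
    · exact ⟨e, List.mem_cons_self, j, hj, by rw [hd, tr2_append]⟩

theorem every_coset (d : ℕ) (hd : d < 22880) :
    ∃ e, orbitOK e = true ∧ ∃ j < 11, d = tr2 0 (decodeW e.1 ++ rep yWord j) := by
  have key : ∀ n X, Nat.beq X (2 ^ n - 1) = true → d < n → X.testBit d = true := fun n X h hn => by
    rw [Nat.eq_of_beq_eq_true h, Nat.testBit_two_pow_sub_one]; exact decide_eq_true hn
  have h := key _ _ cover_all hd
  have go : ∀ L cv, Nat.beq (coverOf L) cv = true → L.all orbitOK = true → cv.testBit d = true →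
      ∃ e, orbitOK e = true ∧ ∃ j < 11, d = tr2 0 (decodeW e.1 ++ rep yWord j) := fun L cv h1 h2 h3 => by
    rw [← Nat.eq_of_beq_eq_true h1] at h3
    obtain ⟨e, he, h'⟩ := coverOf_bit h3
    exact ⟨e, List.all_eq_true.1 h2 e he, h'⟩
  have hor : ∀ A B : ℕ, (Nat.lor A B).testBit d = true → A.testBit d = true ∨ B.testBit d = true := fun A B h => by
    change (A ||| B).testBit d = true at h
    rwa [Nat.testBit_or, Bool.or_eq_true] at h
  rcases hor _ _ h with h | h
  swap; · exact go _ _ cover_ok_7 orbits_ok_7 h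
  rcases hor _ _ h with h | h
  swap; · exact go _ _ cover_ok_6 orbits_ok_6 h
  rcases hor _ _ h with h | h
  swap; · exact go _ _ cover_ok_5 orbits_ok_5 h
  rcases hor _ _ h with h | h
  swap; · exact go _ _ cover_ok_4 orbits_ok_4 h
  rcases hor _ _ h with h | h
  swap; · exact go _ _ cover_ok_3 orbits_ok_3 h
  rcases hor _ _ h with h | h
  swap; · exact go _ _ cover_ok_2 orbits_ok_2 h
  rcases hor _ _ h with h | h
  · exact go _ _ cover_ok_0 orbits_ok_0 h
  · exact go _ _ cover_ok_1 orbits_ok_1 h

theorem ev_cand_false (p : List ℕ) : ev (candWord false p) = (ev p)⁻¹ * ev uWord * ev p := by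
  rw [candWord, cond_false, ev_append, ev_append, ev_reverse]

theorem ev_cand_true (p : List ℕ) : ev (candWord true p) = (ev p)⁻¹ * (ev uWord)⁻¹ * ev p := by
  rw [candWord, cond_true, ev_append, ev_append, ev_reverse, ev_reverse]

/-- The conjugates of the element of order 3. -/
theorem conj_form (g : G) : ∃ e, orbitOK e = true ∧ ∃ (j : ℕ) (s : Bool),
    g⁻¹ * ev uWord * g = (ev yWord ^ j)⁻¹ * ev (candWord s (decodeW e.1)) * ev yWord ^ j := by
  set o : Fin Suz22880.data.n := ⟨0, Suz22880.valid.base.1⟩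
  obtain ⟨e, he, j, -, hd⟩ := every_coset _ (show ((act2 g⁻¹ o : Fin _) : ℕ) < 22880 from Fin.isLt _)
  set h := ev (decodeW e.1 ++ rep yWord j) with hh
  have e0 : act2 g⁻¹ o = act2 h⁻¹ o := Fin.ext (hd.trans (tr2_eq o _))
  have hn : act2 (h * g⁻¹) o = o := by
    rw [map_mul, Equiv.Perm.mul_apply, e0, map_inv, Equiv.Perm.coe_inv, Equiv.apply_symm_apply]
  have he' : h = ev (decodeW e.1) * ev yWord ^ j := by rw [hh, ev_append, ev_rep]
  have eg : g⁻¹ * ev uWord * g = h⁻¹ * (h * g⁻¹ * ev uWord * (h * g⁻¹)⁻¹) * h := by group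
  rcases stab2 hn with hu | hu
  · refine ⟨e, he, j, false, ?_⟩
    rw [eg, hu, he', ev_cand_false]; group
  · refine ⟨e, he, j, true, ?_⟩
    rw [eg, hu, he', ev_cand_true]; group

theorem orderOf_y : orderOf (ev yWord) = 11 := by
  have : Fact (Nat.Prime 11) := ⟨by norm_num⟩
  refine orderOf_eq_prime ?_ fun e => ?_
  · rw [← ev_rep, eq_of_sameW y_power, ev_nil]
  · have h := y_moves
    rw [tr_eq (by omega), e, inv_one, mv_one] at h
    simp at h

theorem g_conj (i : ℕ) : ev gWord ^ i * ev yWord ^ (2 ^ i) * (ev gWord ^ i)⁻¹ = ev yWord := by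
  have h := eq_of_sameW g_squares
  rw [ev_append, ev_append, ev_append] at h
  have h2 : ev gWord * ev yWord ^ 2 * (ev gWord)⁻¹ = ev yWord := by
    rw [pow_two, ← mul_assoc, ← h, mul_inv_cancel_right]
  induction i with
  | zero => simp
  | succ i ih =>
    rw [pow_succ (ev gWord), pow_succ' 2 i, pow_mul, show ev gWord ^ i * ev gWord * (ev yWord ^ 2) ^ 2 ^ i *
      (ev gWord ^ i * ev gWord)⁻¹ = ev gWord ^ i * (ev gWord * (ev yWord ^ 2) ^ 2 ^ i * (ev gWord)⁻¹) *
      (ev gWord ^ i)⁻¹ by group, ← conj_pow, h2, ih]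

/-- An automorphism moved to fix the element of order 11. -/
theorem fix_y (α : G ≃* G) : ∃ g : G, g * α (ev yWord) * g⁻¹ = ev yWord := by
  classical
  have : Fact (Nat.Prime 11) := ⟨by norm_num⟩
  obtain ⟨g, hmem, -⟩ := power_image orderOf_y (by
    rw [show (448345497600 : ℕ) = 11 * 40758681600 by norm_num, Nat.factorization_mul (by norm_num) (by norm_num),
      Finsupp.add_apply, Nat.Prime.factorization_self (by norm_num), Nat.factorization_eq_zero_of_not_dvd (by norm_num)]) α
  rw [mem_zpowers_iff_mem_range_orderOf, Finset.mem_image] at hmem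
  obtain ⟨k, hk, hk'⟩ := hmem
  rw [Finset.mem_range, orderOf_y] at hk
  have hk0 : k ≠ 0 := fun e => by
    rw [e, pow_zero, eq_comm, conj_eq_one_iff, map_eq_one_iff α α.injective] at hk'
    have := orderOf_y
    rw [hk', orderOf_one] at this
    omega
  obtain ⟨i, -, hi⟩ := (show ∀ k < 11, k ≠ 0 → ∃ i < 10, 2 ^ i % 11 = k by decide) k hk hk0
  refine ⟨ev gWord ^ i * g, ?_⟩
  rw [show ev gWord ^ i * g * α (ev yWord) * (ev gWord ^ i * g)⁻¹ =
    ev gWord ^ i * (g * α (ev yWord) * g⁻¹) * (ev gWord ^ i)⁻¹ by group, ← hk',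
    show ev yWord ^ k = ev yWord ^ (2 ^ i) by
      rw [← pow_mod_orderOf (ev yWord) (2 ^ i), orderOf_y, hi], g_conj]

/-- The two possible images. -/
noncomputable def img (b : Bool) : G := if b then ev (candWord true secondPath) else ev uWord

theorem normal_form (α : G ≃* G) :
    ∃ (g : G) (b : Bool), g * α (ev yWord) * g⁻¹ = ev yWord ∧ g * α (ev uWord) * g⁻¹ = img b := by
  obtain ⟨g, hg⟩ := fix_y α
  obtain ⟨h, hh⟩ := image_u α
  obtain ⟨e, he, j, s, hs⟩ := conj_form (h * g⁻¹)
  set p := decodeW e.1 with hp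
  set Y := ev yWord with hY
  refine ⟨Y ^ j * g, ?_⟩
  have e1 : Y ^ j * g * α Y * (Y ^ j * g)⁻¹ = Y := by
    rw [show Y ^ j * g * α Y * (Y ^ j * g)⁻¹ = Y ^ j * (g * α Y * g⁻¹) * (Y ^ j)⁻¹ by group, hg]
    group
  have e2 : Y ^ j * g * α (ev uWord) * (Y ^ j * g)⁻¹ = ev (candWord s p) := by
    rw [hh, show Y ^ j * g * (h⁻¹ * ev uWord * h) * (Y ^ j * g)⁻¹ =
      Y ^ j * ((h * g⁻¹)⁻¹ * ev uWord * (h * g⁻¹)) * (Y ^ j)⁻¹ by group, hs]
    group
  let β : G →* G := ((MulAut.conj (Y ^ j * g) : MulAut G).toMonoidHom).comp α.toMonoidHom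
  have kill : ∀ k pt, failsOK s p k pt = true → False := fun k pt hf => by
    unfold failsOK at hf
    obtain ⟨hk, hf⟩ := Bool.and_eq_true_iff.1 hf
    obtain ⟨hpt, hne⟩ := Bool.and_eq_true_iff.1 hf
    rw [Nat.blt_eq] at hpt
    have href : ev (rep (uWord ++ rep yWord k) (orderRef k)) = 1 := by
      rcases Bool.or_eq_true_iff.1 hk with hk | hk <;> rw [Nat.eq_of_beq_eq_true hk]
      · exact (eq_of_sameW ref_5).trans ev_nil
      · exact (eq_of_sameW ref_6).trans ev_nil
    have hb := congrArg β href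
    rw [map_one, ev_rep, ev_append, ev_rep, map_pow, map_mul, map_pow] at hb
    have hbu : β (ev uWord) = ev (candWord s p) := e2
    have hby : β (ev yWord) = ev yWord := e1
    rw [hbu, hby, ← ev_rep yWord k, ← ev_append, ← ev_rep] at hb
    rw [tr_eq hpt, hb, inv_one, mv_one] at hne
    simp at hne
  unfold orbitOK at he
  obtain ⟨h1, h2⟩ := Bool.and_eq_true_iff.1 he
  cases s with
  | false =>
    rcases Bool.or_eq_true_iff.1 h1 with h1 | h1
    · exact absurd h1 fun h => kill _ _ h
    · refine ⟨false, e1, e2.trans ?_⟩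
      rw [hp, beq_iff_eq.1 h1, ev_cand_false, ev_nil]
      simp [img]
  | true =>
    rcases Bool.or_eq_true_iff.1 h2 with h2 | h2
    · exact absurd h2 fun h => kill _ _ h
    · refine ⟨true, e1, e2.trans ?_⟩
      rw [hp, beq_iff_eq.1 h2]
      simp [img]

theorem ext_two {f f' : G →* G} (hy : f (ev yWord) = f' (ev yWord)) (hu : f (ev uWord) = f' (ev uWord)) : f = f' := by
  let E := f.eqLocus f'
  have hblk : ∀ b, b = 7 ∨ b = 8 ∨ b = 9 → ev (block b) ∈ E := by
    rintro b (rfl | rfl | rfl)
    · exact hu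
    · show f (ev uWord.reverse) = f' (ev uWord.reverse)
      rw [ev_reverse, map_inv, map_inv, hu]
    · exact hy
  have hflat : ∀ bs : List ℕ, (∀ b ∈ bs, ev (block b) ∈ E) → ev (bs.flatMap block) ∈ E := by
    intro bs
    induction bs with
    | nil => exact fun _ => one_mem E
    | cons b bs ih =>
      intro h
      rw [List.flatMap_cons, ev_append]
      exact mul_mem (h b List.mem_cons_self) (ih fun c hc => h c (List.mem_cons_of_mem _ hc))
  have step : ∀ (x : ℕ) (bs prev : List ℕ), sameW [x] (bs.flatMap block) = true →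
      bs.all (fun b => b == 7 || b == 8 || b == 9 || prev.contains b) = true →
      (∀ y ∈ prev, y < 7 ∧ a y ∈ E) → a x ∈ E := by
    intro x bs prev h hb hprev
    rw [← ev_single, eq_of_sameW h]
    refine hflat bs fun b hbm => ?_
    have := List.all_eq_true.1 hb b hbm
    simp only [Bool.or_eq_true, beq_iff_eq, List.contains_iff_mem] at this
    rcases this with ((h | h) | h) | h
    · exact hblk b (Or.inl h)
    · exact hblk b (Or.inr (Or.inl h))
    · exact hblk b (Or.inr (Or.inr h))
    · obtain ⟨hlt, hm⟩ := hprev b h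
      have : block b = [b] := by
        unfold block
        split <;> first | omega | rfl
      rw [this, ev_single]; exact hm
  have h0 := step 0 (genBlocks.getD 0 (0, [])).2 [] gen_0 (by decide +kernel) (by simp)
  have h2 := step 2 (genBlocks.getD 1 (0, [])).2 [] gen_1 (by decide +kernel) (by simp)
  have h3 := step 3 (genBlocks.getD 2 (0, [])).2 [] gen_2 (by decide +kernel) (by simp)
  have h4 := step 4 (genBlocks.getD 3 (0, [])).2 [] gen_3 (by decide +kernel) (by simp)
  have hp : ∀ y ∈ [0, 2, 3, 4], y < 7 ∧ a y ∈ E := by simp [h0, h2, h3, h4]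
  have h1 := step 1 (genBlocks.getD 4 (0, [])).2 [0, 2, 3, 4] gen_4 (by decide +kernel) hp
  have h5 := step 5 (genBlocks.getD 5 (0, [])).2 [0, 2, 3, 4] gen_5 (by decide +kernel) hp
  have h6 := step 6 (genBlocks.getD 6 (0, [])).2 [0, 2, 3, 4] gen_6 (by decide +kernel) hp
  refine MonoidHom.eq_of_eqOn_dense (gen_generates Cfsg.Agent.S1680.fits) ?_
  rintro _ ⟨x, rfl⟩
  by_cases hx : x < 7
  · show a x ∈ E
    interval_cases x <;> assumption
  · rw [gen_big Cfsg.Agent.S1680.fits (show Suz1782.data.ng ≤ x from by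
      have : Suz1782.data.ng = 7 := rfl
      omega), map_one, map_one]

theorem card_out_le : Nat.card (Cfsg.Out G) ≤ 2 := by
  classical
  choose g b hgy hgu using normal_form
  have key : ∀ α β : G ≃* G, b α = b β → (β : MulAut G)⁻¹ * α ∈ Cfsg.Inn G := by
    intro α β e
    refine ⟨β.symm ((g α)⁻¹ * g β), ?_⟩
    have h : ∀ z, g α * α z * (g α)⁻¹ = g β * β z * (g β)⁻¹ := fun z =>
      DFunLike.congr_fun (ext_two (f := (α.trans (MulAut.conj (g α))).toMonoidHom)
        (f' := (β.trans (MulAut.conj (g β))).toMonoidHom) ((hgy α).trans (hgy β).symm)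
        ((hgu α).trans (e ▸ (hgu β).symm))) z
    refine MulEquiv.ext fun z => β.injective ?_
    show β (β.symm ((g α)⁻¹ * g β) * z * (β.symm ((g α)⁻¹ * g β))⁻¹) = β (β.symm (α z))
    rw [map_mul, map_mul, map_inv, β.apply_symm_apply, β.apply_symm_apply]
    calc (g α)⁻¹ * g β * β z * ((g α)⁻¹ * g β)⁻¹ = (g α)⁻¹ * (g β * β z * (g β)⁻¹) * g α := by group
      _ = α z := by rw [← h z]; group
  refine le_trans (Nat.card_le_card_of_injective (fun q : Cfsg.Out G => b (Quotient.out q : MulAut G)) ?_) (by simp)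
  intro p q e
  rw [← QuotientGroup.out_eq' p, ← QuotientGroup.out_eq' q]
  exact (QuotientGroup.eq.2 (key _ _ e.symm))

theorem total_mul_le : ∀ (ls : List Level) (pre : List ℕ), chainOK Suz1782.data pre ls = true →
    total ls * Nat.card (fixSet act (pre ++ ls.map Level.pt)) ≤ Nat.card (fixSet act pre)
  | [], pre, _ => by rw [List.map_nil, List.append_nil]; simp [total]
  | l :: ls, pre, h => by
    classical
    simp only [chainOK, levelOK, Bool.and_eq_true, Nat.ble_eq, List.all_eq_true, Nat.beq_eq] at h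
    obtain ⟨⟨⟨hlt, hfix⟩, hsz⟩, hrest⟩ := h
    have ih := total_mul_le ls (pre ++ [l.pt]) hrest
    rw [List.append_assoc, List.singleton_append] at ih
    let b : Fin Suz1782.data.n := ⟨l.pt, by simpa using hlt⟩
    set m := maskFrom Suz1782.data l.gens l.reach (Nat.shiftLeft 1 l.pt)
    have hex : ∀ c : {c : Fin Suz1782.data.n // m.testBit c = true}, ∃ g ∈ fixSet act pre, g b = c.1 := fun c => by
      obtain ⟨g, hg, hg'⟩ := exists_of_mask Suz1782.valid act (a := a)
        (toPerm_gen Suz1782.valid Cfsg.Agent.S1680.fits) hfix b l.reach (Nat.shiftLeft 1 l.pt) (by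
        intro p hp
        change (1 <<< l.pt : ℕ).testBit p = true at hp
        rw [Nat.one_shiftLeft, Nat.testBit_two_pow, decide_eq_true_eq] at hp
        exact ⟨1, one_mem _, hp⟩) c.1 c.2
      exact ⟨g, hg, Fin.ext hg'⟩
    choose g hg hgb using hex
    let F : {c : Fin Suz1782.data.n // m.testBit c = true} × fixSet act (pre ++ [l.pt]) → fixSet act pre := fun p =>
      ⟨g p.1 * p.2.1, mul_mem (hg p.1) ⟨p.2.2.1, fun c hc => p.2.2.2 c (List.mem_append_left _ hc)⟩⟩
    have hF : Function.Injective F := by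
      intro p q hpq
      have e := congrArg Subtype.val hpq
      have e' := congrArg (fun s : Equiv.Perm (Fin Suz1782.data.n) => s b) e
      simp only [F, Equiv.Perm.mul_apply, p.2.2.2 b (by simp [b]), q.2.2.2 b (by simp [b]), hgb] at e'
      have e1 := Subtype.ext e'
      simp only [F, e1] at e
      exact Prod.ext e1 (Subtype.ext (mul_left_cancel e))
    have hcard : (List.range Suz1782.data.n).countP m.testBit = Nat.card {c : Fin Suz1782.data.n // m.testBit c = true} := by
      rw [Nat.card_eq_fintype_card, Fintype.card_subtype, List.countP_eq_length_filter,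
        ← List.toFinset_card_of_nodup (List.nodup_range.filter _),
        ← Finset.card_map Fin.valEmbedding]
      congr 1
      ext c
      simp only [List.mem_toFinset, List.mem_filter, List.mem_range, Finset.mem_map, Finset.mem_filter,
        Finset.mem_univ, true_and, Fin.valEmbedding_apply]
      exact ⟨fun ⟨hc, hm⟩ => ⟨⟨c, hc⟩, hm, rfl⟩, fun ⟨d, hd, e⟩ => e ▸ ⟨d.2, hd⟩⟩
    calc total (l :: ls) * Nat.card (fixSet act (pre ++ (l :: ls).map Level.pt))
        = l.size * (total ls * Nat.card (fixSet act (pre ++ l.pt :: ls.map Level.pt))) := by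
          rw [← mul_assoc]; rfl
      _ ≤ Nat.card {c : Fin Suz1782.data.n // m.testBit c = true} * Nat.card (fixSet act (pre ++ [l.pt])) :=
        Nat.mul_le_mul (hsz.trans hcard.le) ih
      _ = Nat.card ({c : Fin Suz1782.data.n // m.testBit c = true} × fixSet act (pre ++ [l.pt])) := (Nat.card_prod _ _).symm
      _ ≤ _ := Nat.card_le_card_of_injective F hF

/-- The first seven base points. -/
noncomputable def preSeven : List ℕ := (SuzChain.levels.take 7).map Level.pt

theorem take_chain : chainOK Suz1782.data [] (SuzChain.levels.take 7) = true ∧ total (SuzChain.levels.take 7) * 4 = 448345497600 := by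
  constructor <;> decide +kernel

/-- The four elements fixing the first seven base points. -/
noncomputable def fourWords : List (List ℕ) :=
  let v := (SuzChain.lev7.gens).getD 1 []
  let w := (SuzChain.lev8.gens).getD 0 []
  [[], v, w, v ++ w]

theorem four_ok :
    (fourWords.all fun w => preSeven.all fun p => Nat.beq (tr p w) p) = true ∧
      ((List.range 4).all fun i => (List.range 4).all fun j => Nat.beq i j ||
        !(Nat.beq (tr 304 (fourWords.getD i [])) (tr 304 (fourWords.getD j [])) &&
          Nat.beq (tr 2 (fourWords.getD i [])) (tr 2 (fourWords.getD j [])))) = true ∧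
      ((List.range 4).all fun i => !Nat.beq (tr 304 (fourWords.getD i []))
        (tr (at16 piN 304) siftWord.reverse)) = true ∧ preSeven.all (fun p => Nat.blt p 1782) = true := by
  refine ⟨?_, ?_, ?_, ?_⟩ <;> decide +kernel

theorem pi_onto : Nat.beq ((List.range 1782).foldr (fun c m => Nat.lor m (Nat.shiftLeft 1 (at16 piN c))) 0)
    (2 ^ 1782 - 1) = true := by decide +kernel

theorem pi_lt (c : Fin Suz1782.data.n) : at16 piN c < Suz1782.data.n := by
  have h := of_forall pi_range (show (c : ℕ) < 1782 from c.2)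
  rwa [Nat.blt_eq] at h

theorem exists_outer : ∃ σ : G ≃* G, (σ : MulAut G) ∉ Cfsg.Inn G := by
  have hsurj : Function.Surjective fun c : Fin Suz1782.data.n => (⟨at16 piN c, pi_lt c⟩ : Fin Suz1782.data.n) := by
    intro d
    have key : ∀ n X, Nat.beq X (2 ^ n - 1) = true → (d : ℕ) < n → X.testBit d = true := fun n X h hn => by
      rw [Nat.eq_of_beq_eq_true h, Nat.testBit_two_pow_sub_one]; exact decide_eq_true hn
    have hb := key _ _ pi_onto d.2
    have : ∀ L : List ℕ, (∀ c ∈ L, c < 1782) → (L.foldr (fun c m => Nat.lor m (Nat.shiftLeft 1 (at16 piN c))) 0).testBit d = true →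
        ∃ c : Fin Suz1782.data.n, at16 piN c = d := by
      intro L
      induction L with
      | nil => intro _ h; simp at h
      | cons c L ih =>
        intro hL h
        rw [List.foldr_cons] at h
        change (_ ||| 1 <<< at16 piN c : ℕ).testBit d = true at h
        rw [Nat.testBit_or, Nat.one_shiftLeft, Nat.testBit_two_pow, Bool.or_eq_true, decide_eq_true_eq] at h
        rcases h with h | h
        · exact ih (fun c hc => hL c (List.mem_cons_of_mem _ hc)) h
        · exact ⟨⟨c, hL c List.mem_cons_self⟩, h⟩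
    obtain ⟨c, hc⟩ := this _ (fun c hc => List.mem_range.1 hc) hb
    exact ⟨c, Fin.ext hc⟩
  let π : Equiv.Perm (Fin Suz1782.data.n) := Equiv.ofBijective _ ⟨Finite.injective_iff_surjective.2 hsurj, hsurj⟩
  have hπ : ∀ c : Fin Suz1782.data.n, ((π c : Fin _) : ℕ) = at16 piN c := fun c => rfl
  have hconj : ∀ x < 7, π * act (a x) * π⁻¹ = act (ev (sigWords.getD x []))⁻¹ := by
    intro x hx
    have hs : forallFrom (fun c => Nat.beq (tr (at16 piN c) (sigWords.getD x [])) (at16 piN (tr c [x]))) 0 1782 = true := by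
      interval_cases x
      exacts [sig_0, sig_1, sig_2, sig_3, sig_4, sig_5, sig_6]
    rw [mul_inv_eq_iff_eq_mul]
    refine Equiv.ext fun c => Fin.ext ?_
    rw [Equiv.Perm.mul_apply, Equiv.Perm.mul_apply, hπ, ← mv_coe, ← mv_coe, mv_letter c.2,
      ← Nat.eq_of_beq_eq_true (of_forall hs c.2), hπ, tr_eq (show at16 piN c < 1782 from pi_lt c)]
  have hrange : ∀ g : G, ∃ g' : G, π * act g * π⁻¹ = act g' := by
    intro g
    have hg : g ∈ Subgroup.closure (Set.range (gen Spor.Suz.edges Spor.Suz.extra Cfsg.Agent.S1680.gens)) := by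
      rw [gen_generates Cfsg.Agent.S1680.fits]; exact Subgroup.mem_top g
    induction hg using Subgroup.closure_induction with
    | mem g hg =>
      obtain ⟨x, rfl⟩ := hg
      by_cases hx : x < 7
      · exact ⟨_, hconj x hx⟩
      · refine ⟨1, ?_⟩
        rw [gen_big Cfsg.Agent.S1680.fits (show Suz1782.data.ng ≤ x from by
          have : Suz1782.data.ng = 7 := rfl
          omega), map_one, mul_one, mul_inv_cancel]
    | one => exact ⟨1, by rw [map_one, mul_one, mul_inv_cancel]⟩
    | mul g h _ _ i1 i2 =>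
      obtain ⟨g', hg'⟩ := i1
      obtain ⟨h', hh'⟩ := i2
      exact ⟨g' * h', by rw [map_mul, map_mul, ← hg', ← hh']; group⟩
    | inv g _ i1 =>
      obtain ⟨g', hg'⟩ := i1
      exact ⟨g'⁻¹, by rw [map_inv, map_inv, ← hg']; group⟩
  choose s hs using hrange
  have hinj := card_suz_and_faithful.2.1
  let f : G →* G := MonoidHom.mk' s fun g h => hinj (by rw [map_mul, ← hs, ← hs, ← hs, map_mul]; group)
  have hfi : Function.Injective f := fun g h e => hinj (by
    have e' : π * act g * π⁻¹ = π * act h * π⁻¹ := by rw [hs, hs]; exact congrArg act e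
    exact mul_left_cancel (mul_right_cancel e'))
  refine ⟨MulEquiv.ofBijective f ⟨hfi, Finite.surjective_of_injective hfi⟩, ?_⟩
  rintro ⟨g, hg⟩
  have hc : ∀ z, π * act z * π⁻¹ = act g * act z * (act g)⁻¹ := fun z => by
    rw [hs, ← map_inv, ← map_mul, ← map_mul]
    exact congrArg act (DFunLike.congr_fun hg z).symm
  set ρ := (act g)⁻¹ * π with hρ
  have hcomm : ∀ z, ρ * act z = act z * ρ := fun z => by
    have := hc z
    calc ρ * act z = (act g)⁻¹ * (π * act z * π⁻¹) * π := by rw [hρ]; group
      _ = _ := by rw [this, hρ]; group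
  set o : Fin Suz1782.data.n := ⟨0, Suz1782.valid.base.1⟩
  have hρo : ρ o = o := by
    have hlett : ∀ x < 6, tr (ρ o) [x] = ρ o := by
      intro x hx
      have h := List.all_eq_true.1 Suz1782.valid.fixes [x]
        ((show ∀ x < 6, [x] ∈ Suz1782.data.subs by decide) x hx)
      rw [← mv_letter (ρ o).2, mv_coe, ← Equiv.Perm.mul_apply, ← hcomm, Equiv.Perm.mul_apply]
      refine congrArg (fun c : Fin Suz1782.data.n => ((ρ c : Fin _) : ℕ)) (Fin.ext ?_)
      rw [← mv_coe, mv_letter o.2]
      exact Nat.eq_of_beq_eq_true h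
    have h := of_forall only_origin (ρ o).2
    rw [Bool.or_eq_true, Bool.not_eq_true'] at h
    rcases h with h | h
    · exact Fin.ext (Nat.eq_of_beq_eq_true h)
    · exfalso
      have hall : forallFrom (fun x => Nat.beq (tr (ρ o) [x]) (ρ o)) 0 6 = true := by
        show (Nat.beq (tr (ρ o) [5]) (ρ o) && (Nat.beq (tr (ρ o) [4]) (ρ o) && (Nat.beq (tr (ρ o) [3]) (ρ o) &&
          (Nat.beq (tr (ρ o) [2]) (ρ o) && (Nat.beq (tr (ρ o) [1]) (ρ o) && (Nat.beq (tr (ρ o) [0]) (ρ o) && true)))))) = true
        simp [hlett 0 (by omega), hlett 1 (by omega), hlett 2 (by omega), hlett 3 (by omega), hlett 4 (by omega),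
          hlett 5 (by omega)]
      rw [hall] at h
      exact Bool.noConfusion h
  have hρ1 : ρ = 1 := Equiv.ext fun c => by
    have e : act (ev (pathP c))⁻¹ o = c := Fin.ext (by rw [← mv_coe]; exact path_zero c.2)
    calc ρ c = ρ (act (ev (pathP c))⁻¹ o) := by rw [e]
      _ = act (ev (pathP c))⁻¹ (ρ o) := by rw [← Equiv.Perm.mul_apply, hcomm, Equiv.Perm.mul_apply]
      _ = c := by rw [hρo, e]
  have hπg : π = act g := (inv_mul_eq_one.1 hρ1).symm
  -- an element fixing seven base points and moving the next one too far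
  set h := ev siftWord * g with hh
  have hlv : ∀ c ∈ preSeven, c < 1782 := fun c hc => by
    have := List.all_eq_true.1 four_ok.2.2.2 c hc
    rwa [Nat.blt_eq] at this
  have hg' : ∀ c : Fin Suz1782.data.n, mv g c = at16 piN c := fun c => by rw [mv_coe, ← hπg, hπ]
  have hfix : ∀ c : Fin Suz1782.data.n, (c : ℕ) ∈ preSeven → act h c = c := by
    intro c hc
    obtain ⟨l, hl, hl'⟩ := List.mem_map.1 hc
    have hagree := Nat.eq_of_beq_eq_true (List.all_eq_true.1 sift_agrees l hl)
    rw [hl', tr_eq c.2] at hagree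
    refine Fin.ext ?_
    rw [← mv_coe, hh, mv_mul, hg', ← hagree, ← mv_mul, mul_inv_cancel, mv_one]
  set pre := preSeven
  have hle : Nat.card (fixSet act pre) ≤ 4 := by
    have h1 := total_mul_le (SuzChain.levels.take 7) [] take_chain.1
    rw [List.nil_append] at h1
    have h2 : Nat.card (fixSet act ([] : List ℕ)) ≤ 448345497600 := by
      rw [← card_suz_and_faithful.1]
      refine le_trans (Nat.card_le_card_of_injective (fun x => (⟨x.1, x.2.1⟩ : act.range))
        fun _ _ e => Subtype.ext (congrArg Subtype.val e :)) ?_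
      exact Nat.card_le_card_of_surjective _ act.rangeRestrict_surjective
    have h3 := take_chain.2
    change total (SuzChain.levels.take 7) * Nat.card (fixSet act pre) ≤ _ at h1
    by_contra hlt
    have : total (SuzChain.levels.take 7) * 5 ≤ total (SuzChain.levels.take 7) * Nat.card (fixSet act pre) :=
      Nat.mul_le_mul_left _ (by omega)
    omega
  have hmem : ∀ i : Fin 4, (act (ev (fourWords.getD i []))⁻¹) ∈ fixSet act pre := fun i => by
    refine ⟨⟨_, rfl⟩, fun c hc => Fin.ext ?_⟩
    rw [← mv_coe, ← tr_eq c.2]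
    exact Nat.eq_of_beq_eq_true (List.all_eq_true.1 (List.all_eq_true.1 four_ok.1 _
      (by rw [List.getD_eq_getElem _ _ (show (i : ℕ) < fourWords.length from i.2)]; exact List.getElem_mem _)) _ hc)
  let F : Option (Fin 4) → fixSet act pre := fun i => match i with
    | none => ⟨act h, ⟨h, rfl⟩, hfix⟩
    | some i => ⟨_, hmem i⟩
  have hF : Function.Injective F := by
    have h304 : ∀ (i : Fin 4) (c : ℕ) (hc : c < 1782),
        ((act (ev (fourWords.getD i []))⁻¹ ⟨c, hc⟩ : Fin _) : ℕ) = tr c (fourWords.getD i []) := fun i c hc => by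
      rw [← mv_coe, tr_eq hc]
    have hh304 : ((act h ⟨304, show (304 : ℕ) < Suz1782.data.n from (by decide)⟩ : Fin _) : ℕ) =
        tr (at16 piN 304) siftWord.reverse := by
      rw [← mv_coe, hh, mv_mul, hg', tr_eq (pi_lt ⟨304, by decide⟩), ev_reverse, inv_inv]
    have hne : ∀ i : Fin 4, F none ≠ F (some i) := fun i e => by
      have e' := congrArg (fun p : fixSet act pre =>
        (((p : Equiv.Perm (Fin Suz1782.data.n)) ⟨304, by decide⟩ : Fin _) : ℕ)) e
      have e'' := (hh304.symm.trans e').trans (h304 i 304 (by decide))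
      have := List.all_eq_true.1 four_ok.2.2.1 i (List.mem_range.2 i.2)
      rw [e''] at this
      simp at this
    rintro (_ | i) (_ | j) e
    · rfl
    · exact absurd e (hne j)
    · exact absurd e.symm (hne i)
    · congr 1
      have e1 := congrArg (fun p : fixSet act pre =>
        (((p : Equiv.Perm (Fin Suz1782.data.n)) ⟨304, by decide⟩ : Fin _) : ℕ)) e
      have e2 := congrArg (fun p : fixSet act pre =>
        (((p : Equiv.Perm (Fin Suz1782.data.n)) ⟨2, by decide⟩ : Fin _) : ℕ)) e
      replace e1 := ((h304 i 304 (by decide)).symm.trans e1).trans (h304 j 304 (by decide))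
      replace e2 := ((h304 i 2 (by decide)).symm.trans e2).trans (h304 j 2 (by decide))
      have := List.all_eq_true.1 (List.all_eq_true.1 four_ok.2.1 i (List.mem_range.2 i.2)) j (List.mem_range.2 j.2)
      rw [e1, e2] at this
      exact Fin.ext (by simpa using this)
  have := Nat.card_le_card_of_injective F hF
  simp at this
  omega

/-- The outer automorphism group of Suz has order 2. -/
theorem card_out : Nat.card (Cfsg.Out G) = 2 := by
  obtain ⟨σ, hσ⟩ := exists_outer
  refine le_antisymm card_out_le ?_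
  haveI : Finite (MulAut G) := Finite.of_injective (fun α : MulAut G => (α : G → G)) DFunLike.coe_injective
  haveI : Nontrivial (Cfsg.Out G) := ⟨⟨(σ : MulAut G), 1, fun e => hσ ((QuotientGroup.eq_one_iff _).1 e)⟩⟩
  exact Finite.one_lt_card

end CfsgLib.Recog.SporBound.SuzAut
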