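import Cfsg.Agent.Lib.Recog.SporBound.SuzAut.Defs
import Cfsg.Agent.Lib.Recog.SporBound.Check

set_option autoImplicit false
set_option maxRecDepth 20000
set_option Elab.async false

/-! Kernel checks for the automorphism group of Suz: the six possible images, in blocks of points (owner: helper18). -/

namespace CfsgLib.Recog.SporBound.SuzAut

open CfsgLib.ThreeTrans.CosetIndex

/-- `survOK` on a block of points. -/
noncomputable def survPart (e : ℕ × ℕ) (s l : ℕ) : Bool :=
  let S := 0 :: cycZ e.1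
  let S' := S ++ extQ.map fun x => at16 e.2 x
  forallFrom (fun r => Nat.blt (at16 e.2 r) 1782 && Nat.beq (patt S' (at16 e.2 r)) (patt baseS r)) s l &&
    extQ.all fun x =>
      forallFrom (fun r => Nat.beq r (at16 e.2 x) || !Nat.beq (patt S r) (patt (0 :: cycQ) x)) s l

theorem survOK_of_parts {e : ℕ × ℕ} (h0 : survPart e 0 594 = true) (h1 : survPart e 594 594 = true)
    (h2 : survPart e 1188 594 = true) : survOK e = true := by
  obtain ⟨a0, b0⟩ := Bool.and_eq_true_iff.1 h0
  obtain ⟨a1, b1⟩ := Bool.and_eq_true_iff.1 h1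
  obtain ⟨a2, b2⟩ := Bool.and_eq_true_iff.1 h2
  refine Bool.and_eq_true_iff.2 ⟨forallFrom_cat (forallFrom_cat (l := 1188) a0 a1 rfl rfl) a2 rfl rfl,
    List.all_eq_true.2 fun x hx => ?_⟩
  exact forallFrom_cat (forallFrom_cat (l := 1188) (List.all_eq_true.1 b0 x hx) (List.all_eq_true.1 b1 x hx) rfl rfl)
    (List.all_eq_true.1 b2 x hx) rfl rfl

end CfsgLib.Recog.SporBound.SuzAut
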